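import Cfsg.Agent.H100.Ppd.Basic

/-!
# TEAM PPD (S5948), piece E: the fusion lemma (helper287)

An element `x` of prime order `r ∣ m` of `GL_n(F)` (`n < 2 k`) has only one Galois orbit of non-trivial eigenvalues, so
`x ^ a` is conjugate to `x` only if `a ≡ q ^ i` modulo `r`.

* `Num.conj_pow`, `Row.conj_pow` : in `GL_n(F)`;
* `Row.conj_pow'` : in `T ≅ Soc P`;  `Row.aut_pow` : for automorphisms of `Soc P` induced by the normaliser of `P`;
* `Row.card_normalizer_dvd` : `|N_T(⟨x⟩) : C_T(x)|` divides `k`.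
-/

set_option autoImplicit false
set_option linter.unusedSectionVars false

namespace Cfsg.Agent.H287.Ppd

open Cfsg Cfsg.Geo Matrix Polynomial
open Cfsg.Agent.H915.LD Cfsg.Agent.H100.Ppd

universe u v w

/-! ### Field lemmas -/

section field

variable {F : Type u} [Field F] [Finite F] {K : Type v} [Field K] [Finite K] [Algebra F K]

/-- a root of unity of order `r` has degree at least `k` -/
theorem le_natDegree {n k m r : ℕ} (h : Num (Nat.card F) n k m) (hr : r.Prime) (hrm : r ∣ m) {η : K}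
    (hη : orderOf η = r) : k ≤ (minpoly F η).natDegree := by
  have : Fintype F := Fintype.ofFinite F
  have : Module.Finite F K := Module.Finite.of_finite
  have hint : IsIntegral F η := Algebra.IsIntegral.isIntegral η
  have h0 : η ≠ 0 := by
    rintro rfl
    have h1 : (0 : K) ^ r = 1 := by rw [← hη, pow_orderOf_eq_one]
    rw [zero_pow hr.ne_zero] at h1
    exact zero_ne_one h1
  let E : IntermediateField F K := IntermediateField.adjoin F {η}
  have : Fintype E := Fintype.ofFinite E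
  have hcard : Nat.card E = Nat.card F ^ (minpoly F η).natDegree := by
    rw [← IntermediateField.adjoin.finrank hint]
    exact Module.natCard_eq_pow_finrank (K := F) (V := E)
  let e : E := ⟨η, IntermediateField.mem_adjoin_simple_self F η⟩
  have he : e ≠ 0 := fun h1 => h0 (congrArg Subtype.val h1)
  have h1 : e ^ (Nat.card E - 1) = 1 := by
    rw [Nat.card_eq_fintype_card]
    exact FiniteField.pow_card_sub_one_eq_one e he
  have h2 : η ^ (Nat.card E - 1) = 1 := by
    have := congrArg Subtype.val h1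
    simpa using this
  have h3 : r ∣ Nat.card F ^ (minpoly F η).natDegree - 1 := by
    rw [← hcard, ← hη]
    exact orderOf_dvd_of_pow_eq_one h2
  have h4 : k ∣ (minpoly F η).natDegree := by
    rw [← h.pow_eq_one_iff hr hrm]
    have h5 : 1 ≤ Nat.card F ^ (minpoly F η).natDegree := Nat.one_le_pow _ _ (by have := h.one_lt_q; omega)
    rw [← ZMod.natCast_eq_zero_iff, Nat.cast_sub h5, Nat.cast_pow, Nat.cast_one, sub_eq_zero] at h3
    exact h3
  exact Nat.le_of_dvd (minpoly.natDegree_pos hint) h4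

/-- conjugate elements over a finite field -/
theorem exists_pow_of_minpoly {ζ η : K} (h : minpoly F ζ = minpoly F η) : ∃ i, η = ζ ^ Nat.card F ^ i := by
  have : Fintype F := Fintype.ofFinite F
  have : Module.Finite F K := Module.Finite.of_finite
  obtain ⟨σ, hσ⟩ := isConjRoot_iff_exists_algEquiv.1 (show IsConjRoot F η ζ from h.symm)
  obtain ⟨i, hi⟩ := (FiniteField.bijective_frobeniusAlgEquivOfAlgebraic_pow F K).2 σ
  refine ⟨i, ?_⟩
  rw [← hσ, ← hi, Nat.card_eq_fintype_card]
  have h1 := congrFun (FiniteField.coe_frobeniusAlgEquivOfAlgebraic_iterate F K i) ζ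
  rw [← AlgEquiv.coe_pow] at h1
  exact h1

end field

/-! ### The matrix lemma -/

theorem aeval_conj_eq {ι : Type*} [Fintype ι] [DecidableEq ι] {F : Type u} [Field F] (y : GL ι F) (A : Matrix ι ι F)
    (g : F[X]) : aeval ((y : Matrix ι ι F) * A * ((y⁻¹ : GL ι F) : Matrix ι ι F)) g =
      (y : Matrix ι ι F) * aeval A g * ((y⁻¹ : GL ι F) : Matrix ι ι F) := by
  have hy : ((y⁻¹ : GL ι F) : Matrix ι ι F) * (y : Matrix ι ι F) = 1 := by
    rw [← Units.val_mul, inv_mul_cancel, Units.val_one]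
  have hy' : (y : Matrix ι ι F) * ((y⁻¹ : GL ι F) : Matrix ι ι F) = 1 := by
    rw [← Units.val_mul, mul_inv_cancel, Units.val_one]
  have hpow : ∀ k : ℕ, ((y : Matrix ι ι F) * A * ((y⁻¹ : GL ι F) : Matrix ι ι F)) ^ k =
      (y : Matrix ι ι F) * A ^ k * ((y⁻¹ : GL ι F) : Matrix ι ι F) := by
    intro k
    induction k with
    | zero => rw [pow_zero, pow_zero, mul_one, hy']
    | succ k ih =>
      rw [pow_succ, ih, pow_succ]
      calc (y : Matrix ι ι F) * A ^ k * ((y⁻¹ : GL ι F) : Matrix ι ι F) * ((y : Matrix ι ι F) * A *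
            ((y⁻¹ : GL ι F) : Matrix ι ι F))
          = (y : Matrix ι ι F) * A ^ k * (((y⁻¹ : GL ι F) : Matrix ι ι F) * (y : Matrix ι ι F)) * A *
            ((y⁻¹ : GL ι F) : Matrix ι ι F) := by simp only [mul_assoc]
        _ = _ := by rw [hy, mul_one, mul_assoc _ (A ^ k) A]
  induction g using Polynomial.induction_on' with
  | add p q hp hq => rw [map_add, map_add, hp, hq, mul_add, add_mul]
  | monomial k c => rw [aeval_monomial, aeval_monomial, hpow]; simp [Algebra.algebraMap_eq_smul_one]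

/-- **The fusion lemma.** -/
theorem Num.conj_pow {n : ℕ} {F : Type u} [Field F] [Finite F] {k m : ℕ} (h : Num (Nat.card F) n k m) {r : ℕ}
    (hr : r.Prime) (hrm : r ∣ m) {x y : GL (Fin n) F} (hx : orderOf x = r) {a : ℕ} (hy : y * x * y⁻¹ = x ^ a) :
    ∃ i, a ≡ Nat.card F ^ i [MOD r] := by
  have : Fintype F := Fintype.ofFinite F
  have : Fact r.Prime := ⟨hr⟩
  have hxr : x ^ r = 1 := by rw [← hx]; exact pow_orderOf_eq_one x
  have hx1 : x ≠ 1 := by
    rintro rfl
    rw [orderOf_one] at hx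
    exact hr.one_lt.ne hx
  have hra : ¬ r ∣ a := by
    rintro ⟨b, rfl⟩
    rw [pow_mul, hxr, one_pow, mul_inv_eq_one] at hy
    exact hx1 (mul_left_cancel (hy.trans (mul_one y).symm))
  -- `r` is not the characteristic
  have hrF : (r : F) ≠ 0 := by
    intro h0
    obtain ⟨p, hp⟩ := CharP.exists F
    have h1 : p ∣ r := (CharP.cast_eq_zero_iff F p r).1 h0
    have hpp : p.Prime := CharP.char_is_prime F p
    have h2 : p = r := (Nat.prime_dvd_prime_iff_eq hpp hr).1 h1
    subst h2
    obtain ⟨j, -, hj⟩ := FiniteField.card F p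
    apply h.not_dvd_q hr hrm
    rw [Nat.card_eq_fintype_card, hj]
    exact dvd_pow_self p j.ne_zero
  set A : Matrix (Fin n) (Fin n) F := (x : Matrix (Fin n) (Fin n) F) with hA
  have hAr : A ^ r = 1 := by rw [hA, ← Units.val_pow_eq_pow_val, hxr, Units.val_one]
  set g : F[X] := minpoly F A with hg
  have hgA : aeval A g = 0 := minpoly.aeval F A
  have hint : IsIntegral F A := Algebra.IsIntegral.isIntegral A
  -- the cyclotomic polynomial
  have hcyc : (X - 1 : F[X]) * cyclotomic r F = X ^ r - 1 := by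
    rw [mul_comm]; exact cyclotomic_prime_mul_X_sub_one F r
  have hgdvd : g ∣ (X - 1) * cyclotomic r F := by
    rw [hcyc, hg]
    apply minpoly.dvd
    simp [hAr]
  have hncop : ¬ IsCoprime g (cyclotomic r F) := by
    intro hc
    have h1 : g ∣ X - 1 := hc.dvd_of_dvd_mul_right hgdvd
    obtain ⟨c, hc1⟩ := h1
    have h2 : aeval A (X - 1 : F[X]) = 0 := by rw [hc1, map_mul, hgA, zero_mul]
    simp only [map_sub, aeval_X, map_one, sub_eq_zero] at h2
    exact hx1 (Units.ext h2)
  obtain ⟨f, hf, hfg, hfc⟩ : ∃ f : F[X], Irreducible f ∧ f ∣ g ∧ f ∣ cyclotomic r F := by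
    by_contra hcon
    push Not at hcon
    apply hncop
    have hg0 : g ≠ 0 := minpoly.ne_zero hint
    rw [← isRelPrime_iff_isCoprime]
    intro d hd1 hd2
    by_contra hu
    have hd0 : d ≠ 0 := by
      rintro rfl
      exact hg0 (zero_dvd_iff.1 hd1)
    obtain ⟨f, hf, hfd⟩ := WfDvdMonoid.exists_irreducible_factor hu hd0
    exact hcon f hf (hfd.trans hd1) (hfd.trans hd2)
  have : Fact (Irreducible f) := ⟨hf⟩
  let K := AdjoinRoot f
  have hKfin : Module.Finite F K := by
    have := (AdjoinRoot.powerBasis hf.ne_zero).finite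
    exact this
  have : Finite K := Module.finite_of_finite F
  set ζ : K := AdjoinRoot.root f with hζ
  have hfζ : aeval ζ f = 0 := by rw [AdjoinRoot.aeval_eq]; exact AdjoinRoot.mk_self
  have haev : ∀ {p : F[X]}, f ∣ p → aeval ζ p = 0 := by
    rintro p ⟨c, rfl⟩
    rw [map_mul, hfζ, zero_mul]
  have : NeZero ((r : ℕ) : K) := ⟨by
    intro h0
    apply hrF
    apply (algebraMap F K).injective
    rw [map_natCast, map_zero]
    exact h0⟩
  have hprim : IsPrimitiveRoot ζ r := by
    rw [← isRoot_cyclotomic_iff (R := K), IsRoot.def, ← map_cyclotomic r (algebraMap F K), eval_map_algebraMap]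
    exact haev hfc
  have hordζ : orderOf ζ = r := hprim.eq_orderOf.symm
  have hordζa : orderOf (ζ ^ a) = r := by
    rw [Nat.Coprime.orderOf_pow (by rw [hordζ]; exact (Nat.Prime.coprime_iff_not_dvd hr).2 hra), hordζ]
  -- `g(ζ ^ a) = 0`
  have hgζa : aeval (ζ ^ a) g = 0 := by
    have h1 : g ∣ g.comp (X ^ a) := by
      apply minpoly.dvd
      rw [aeval_comp]
      simp only [map_pow, aeval_X]
      have h2 : A ^ a = (y : Matrix (Fin n) (Fin n) F) * A * ((y⁻¹ : GL (Fin n) F) : Matrix (Fin n) (Fin n) F) := by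
        rw [hA, ← Units.val_pow_eq_pow_val, ← hy, Units.val_mul, Units.val_mul]
      rw [h2, aeval_conj_eq, hgA, mul_zero, zero_mul]
    have h2 := haev (hfg.trans h1)
    rw [aeval_comp] at h2
    simpa using h2
  have hgζ : aeval ζ g = 0 := haev hfg
  have hdeg : g.natDegree ≤ n := by
    have h1 : g ∣ A.charpoly := Matrix.minpoly_dvd_charpoly A
    have h2 := natDegree_le_of_dvd h1 (Matrix.charpoly_monic A).ne_zero
    rwa [Matrix.charpoly_natDegree_eq_dim, Fintype.card_fin] at h2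
  -- the two minimal polynomials are equal
  have hmin : minpoly F ζ = minpoly F (ζ ^ a) := by
    by_contra hne
    have i1 : IsIntegral F ζ := Algebra.IsIntegral.isIntegral ζ
    have i2 : IsIntegral F (ζ ^ a) := Algebra.IsIntegral.isIntegral _
    have hcop : IsCoprime (minpoly F ζ) (minpoly F (ζ ^ a)) := by
      rw [← isRelPrime_iff_isCoprime]
      rw [(minpoly.irreducible i1).isRelPrime_iff_not_dvd]
      intro hd
      apply hne
      exact eq_of_monic_of_associated (minpoly.monic i1) (minpoly.monic i2)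
        ((minpoly.irreducible i1).associated_of_dvd (minpoly.irreducible i2) hd)
    have h1 : minpoly F ζ * minpoly F (ζ ^ a) ∣ g :=
      hcop.mul_dvd (minpoly.dvd F _ hgζ) (minpoly.dvd F _ hgζa)
    have h2 := natDegree_le_of_dvd h1 (minpoly.ne_zero hint)
    rw [natDegree_mul (minpoly.ne_zero i1) (minpoly.ne_zero i2)] at h2
    have h3 := le_natDegree h hr hrm hordζ
    have h4 := le_natDegree h hr hrm hordζa
    have h5 := h.nlt
    omega
  obtain ⟨i, hi⟩ := exists_pow_of_minpoly hmin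
  refine ⟨i, ?_⟩
  have hζ0 : ζ ≠ 0 := hprim.ne_zero hr.ne_zero
  have h1 : (Units.mk0 ζ hζ0) ^ a = (Units.mk0 ζ hζ0) ^ Nat.card F ^ i := by
    apply Units.ext
    rw [Units.val_pow_eq_pow_val, Units.val_pow_eq_pow_val, Units.val_mk0]
    exact hi
  have h2 := pow_eq_pow_iff_modEq.1 h1
  rwa [← orderOf_units, Units.val_mk0, hordζ] at h2

variable {n : ℕ} {F : Type u} [Field F] [Finite F] {k m : ℕ} {P : Subgroup (GL (Fin n) F)}

theorem Row.conj_pow (h : Row k m P) {r : ℕ} (hr : r.Prime) (hrm : r ∣ m) {x y : GL (Fin n) F} (hx : orderOf x = r)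
    {a : ℕ} (hy : y * x * y⁻¹ = x ^ a) : ∃ i, a ≡ Nat.card F ^ i [MOD r] :=
  Num.conj_pow h.num hr hrm hx hy

/-- a lift of an element of order `r` of `Soc P` to an element of order `r` of `P` -/
theorem Row.exists_lift (h : Row k m P) {r : ℕ} (hr : r.Prime) (hrm : r ∣ m) {s : Soc P} (hs : orderOf s = r) :
    ∃ x : P, toSoc P x = s ∧ orderOf (x : GL (Fin n) F) = r := by
  obtain ⟨x, rfl⟩ := toSoc_surjective P s
  have hcop : r.Coprime (Nat.card F - 1) := Nat.Coprime.coprime_dvd_left hrm h.num.coprime_sub_one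
  -- `x ^ r` is a scalar
  have h1 : toSoc P (x ^ r) = 1 := by rw [map_pow, ← hs, pow_orderOf_eq_one]
  have h2 : x ^ r ∈ (toSoc P).ker := h1
  rw [ker_toSoc, Subgroup.mem_subgroupOf] at h2
  obtain ⟨c, hc⟩ := (mem_scalars_iff _).1 h2
  have hcard : (c : F) ^ (Nat.card F - 1) = 1 := by
    have : Fintype F := Fintype.ofFinite F
    rw [Nat.card_eq_fintype_card]
    exact FiniteField.pow_card_sub_one_eq_one _ c.ne_zero
  have h3 : ((x : GL (Fin n) F) ^ r) ^ (Nat.card F - 1) = 1 := by
    apply Units.ext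
    have hc' : (((x : GL (Fin n) F) ^ r : GL (Fin n) F) : Matrix (Fin n) (Fin n) F) = (c : F) • 1 := hc
    rw [Units.val_pow_eq_pow_val, hc', _root_.smul_pow, hcard, one_pow, one_smul]
    rfl
  obtain ⟨j, hj1, hj2⟩ := Nat.chineseRemainder hcop 1 0
  refine ⟨x ^ j, ?_, ?_⟩
  · rw [map_pow]
    conv_rhs => rw [← pow_one (toSoc P x)]
    rw [pow_eq_pow_iff_modEq, hs]
    exact hj1
  · have h4 : ((x ^ j : P) : GL (Fin n) F) ^ r = 1 := by
      obtain ⟨b, hb⟩ := (Nat.modEq_zero_iff_dvd.1 hj2)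
      rw [Subgroup.coe_pow, ← pow_mul, mul_comm, pow_mul, hb, pow_mul, h3, one_pow]
    have h5 : orderOf ((x ^ j : P) : GL (Fin n) F) ∣ r := orderOf_dvd_of_pow_eq_one h4
    rcases (Nat.dvd_prime hr).1 h5 with h6 | h6
    · exfalso
      rw [orderOf_eq_one_iff] at h6
      have h7 : x ^ j = 1 := Subtype.ext h6
      have h8 : toSoc P x ^ j = toSoc P x ^ 1 := by
        rw [pow_eq_pow_iff_modEq, hs]
        exact hj1
      rw [← map_pow, h7, map_one, pow_one] at h8
      rw [← h8, orderOf_one] at hs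
      exact hr.one_lt.ne hs
    · exact h6

/-- **Automorphisms induced by the normaliser of `P`.** -/
theorem Row.aut_pow (h : Row k m P) {r : ℕ} (hr : r.Prime) (hrm : r ∣ m) {s : Soc P} (hs : orderOf s = r)
    (g : Subgroup.normalizer (P : Set (GL (Fin n) F))) {a : ℕ} (hg : conjSoc h.core.absIrred g s = s ^ a) :
    ∃ i, a ≡ Nat.card F ^ i [MOD r] := by
  obtain ⟨x, rfl, hx⟩ := Row.exists_lift h hr hrm hs
  refine Row.conj_pow h hr hrm hx (y := (g : GL (Fin n) F)) ?_
  rw [conjSoc_mk, ← map_pow] at hg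
  obtain ⟨c, hc⟩ := exists_of_toSoc_eq hg
  have hxr : (x : GL (Fin n) F) ^ r = 1 := by rw [← hx]; exact pow_orderOf_eq_one _
  -- `c ^ r = 1`
  have hc' : ((((x : GL (Fin n) F) ^ a : GL (Fin n) F)) : Matrix (Fin n) (Fin n) F) =
      (c : F) • (((g : GL (Fin n) F) * x * (g : GL (Fin n) F)⁻¹ : GL (Fin n) F) : Matrix (Fin n) (Fin n) F) := hc
  have h1 : ((((x : GL (Fin n) F) ^ a : GL (Fin n) F)) : Matrix (Fin n) (Fin n) F) ^ r = 1 := by
    rw [← Units.val_pow_eq_pow_val, ← pow_mul, mul_comm, pow_mul, hxr, one_pow, Units.val_one]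
  have h2 : (((g : GL (Fin n) F) * x * (g : GL (Fin n) F)⁻¹ : GL (Fin n) F) : Matrix (Fin n) (Fin n) F) ^ r = 1 := by
    rw [← Units.val_pow_eq_pow_val, _root_.conj_pow, hxr, mul_one, mul_inv_cancel, Units.val_one]
  rw [hc', _root_.smul_pow, h2] at h1
  have hn : 0 < n := by have := h.num.ten; omega
  have h3 : (c : F) ^ r = 1 := by
    have h4 := congrFun (congrFun h1 ⟨0, hn⟩) ⟨0, hn⟩
    simpa using h4
  have hcard : (c : F) ^ (Nat.card F - 1) = 1 := by
    have : Fintype F := Fintype.ofFinite F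
    rw [Nat.card_eq_fintype_card]
    exact FiniteField.pow_card_sub_one_eq_one _ c.ne_zero
  have hcop : r.Coprime (Nat.card F - 1) := Nat.Coprime.coprime_dvd_left hrm h.num.coprime_sub_one
  have h4 : (c : F) = 1 := by
    have h5 := Nat.dvd_gcd (orderOf_dvd_of_pow_eq_one h3) (orderOf_dvd_of_pow_eq_one hcard)
    rw [hcop, Nat.dvd_one, orderOf_eq_one_iff] at h5
    exact h5
  rw [h4, one_smul] at hc'
  exact (Units.ext hc').symm

section equiv

variable {T : Type v} [Group T] (e : Soc P ≃* T)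

/-- **The fusion lemma for `T`.** -/
theorem Row.conj_pow' (h : Row k m P) (e : Soc P ≃* T) {r : ℕ} (hr : r.Prime) (hrm : r ∣ m) {x y : T}
    (hx : orderOf x = r) {a : ℕ} (hy : y * x * y⁻¹ = x ^ a) : ∃ i, a ≡ Nat.card F ^ i [MOD r] := by
  obtain ⟨z, hz⟩ := toSoc_surjective P (e.symm y)
  have hs : orderOf (e.symm x) = r := by rw [MulEquiv.orderOf_eq, hx]
  obtain ⟨w, hw, hwr⟩ := Row.exists_lift h hr hrm hs
  have hzN : (z : GL (Fin n) F) ∈ Subgroup.normalizer (P : Set (GL (Fin n) F)) := Subgroup.le_normalizer z.2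
  refine Row.aut_pow h hr hrm hs ⟨z, hzN⟩ ?_
  rw [← hw, conjSoc_mk]
  have h1 : (⟨(z : GL (Fin n) F) * w * (z : GL (Fin n) F)⁻¹,
      (Subgroup.mem_normalizer_iff.1 hzN w).1 w.2⟩ : P) = z * w * z⁻¹ := rfl
  have h2 : toSoc P (z * w * z⁻¹) = toSoc P w ^ a := by
    rw [map_mul, map_mul, map_inv, hz, hw, ← map_mul, ← map_inv, ← map_mul, hy, map_pow]
  exact h2

/-- **`|N_T(⟨x⟩) : C_T(x)|` divides `k`.** -/
theorem Row.card_normalizer_dvd (h : Row k m P) (e : Soc P ≃* T) {r : ℕ} (hr : r.Prime) (hrm : r ∣ m) {x : T}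
    (hx : orderOf x = r) : ((Subgroup.centralizer ({x} : Set T)).subgroupOf
      (Subgroup.normalizer (Subgroup.zpowers x : Set T))).index ∣ k := by
  classical
  have : Fact r.Prime := ⟨hr⟩
  have hfinT : Finite T := Finite.of_equiv _ e.toEquiv
  set Z := Subgroup.zpowers x with hZ
  have hxr : x ^ r = 1 := by rw [← hx]; exact pow_orderOf_eq_one x
  let q : ℕ := Nat.card F
  have hq : r.Coprime q := (Nat.Prime.coprime_iff_not_dvd hr).2 (h.num.not_dvd_q hr hrm)
  let f : Subgroup.normalizer (Z : Set T) →* MulAut Z := Z.normalizerMonoidHom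
  have hker : f.ker = (Subgroup.centralizer ({x} : Set T)).subgroupOf (Subgroup.normalizer (Z : Set T)) := by
    have h1 : f.ker = (Subgroup.centralizer (Z : Set T)).subgroupOf (Subgroup.normalizer (Z : Set T)) :=
      Subgroup.normalizerMonoidHom_ker Z
    rw [h1, hZ, Subgroup.zpowers_eq_closure, Subgroup.centralizer_closure]
  rw [← hker, Subgroup.index_ker]
  -- the power automorphism
  have hcardZ : Nat.card Z = r := by rw [hZ, Nat.card_zpowers, hx]
  let xz : Z := ⟨x, Subgroup.mem_zpowers x⟩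
  have hxz : ∀ w : Z, ∃ j : ℕ, w = xz ^ j := by
    rintro ⟨w, hw⟩
    obtain ⟨j, hj⟩ := (Submonoid.mem_powers_iff w x).1 (mem_powers_iff_mem_zpowers.2 hw)
    exact ⟨j, Subtype.ext hj.symm⟩
  have hcomm : ∀ a b : Z, a * b = b * a := by
    intro a b
    obtain ⟨i, rfl⟩ := hxz a
    obtain ⟨j, rfl⟩ := hxz b
    rw [← pow_add, ← pow_add, add_comm]
  let φ₀ : Z →* Z :=
    { toFun := fun w => w ^ q
      map_one' := one_pow q
      map_mul' := fun a b => (show Commute a b from hcomm a b).mul_pow q }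
  have hφ₀ : Function.Injective φ₀ := by
    rw [← MonoidHom.ker_eq_bot_iff, eq_bot_iff]
    intro w hw
    have h1 : w ^ q = 1 := hw
    have h2 : w ^ r = 1 := by rw [← hcardZ]; exact pow_card_eq_one'
    have h3 := Nat.dvd_gcd (orderOf_dvd_of_pow_eq_one h2) (orderOf_dvd_of_pow_eq_one h1)
    rw [hq, Nat.dvd_one, orderOf_eq_one_iff] at h3
    exact h3
  let φ : MulAut Z := MulEquiv.ofBijective φ₀ ⟨hφ₀, Finite.injective_iff_surjective.1 hφ₀⟩
  have hφpow : ∀ (i : ℕ) (w : Z), (φ ^ i) w = w ^ q ^ i := by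
    intro i
    induction i with
    | zero => intro w; rw [pow_zero, pow_zero, pow_one]; rfl
    | succ i ih =>
      intro w
      rw [pow_succ', MulAut.mul_apply, ih]
      change (w ^ q ^ i) ^ q = w ^ q ^ (i + 1)
      rw [← pow_mul, pow_succ]
  have hφk : φ ^ k = 1 := by
    ext w
    rw [hφpow, MulAut.one_apply]
    congr 1
    conv_rhs => rw [← pow_one w]
    rw [pow_eq_pow_iff_modEq]
    have h1 : orderOf w ∣ r := by rw [← hcardZ]; exact orderOf_dvd_natCard w
    refine Nat.ModEq.of_dvd h1 ?_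
    have h2 : ((q : ZMod r)) ^ k = 1 := (h.num.pow_eq_one_iff hr hrm k).2 dvd_rfl
    rw [← ZMod.natCast_eq_natCast_iff]
    push_cast
    exact h2
  have hrange : f.range ≤ Subgroup.zpowers φ := by
    rintro _ ⟨g, rfl⟩
    obtain ⟨a, ha⟩ := hxz (f g xz)
    have h1 : (g : T) * x * (g : T)⁻¹ = x ^ a := by
      have h2 := congrArg Subtype.val ha
      exact h2
    obtain ⟨i, hi⟩ := Row.conj_pow' h e hr hrm hx h1
    refine ⟨(i : ℤ), ?_⟩
    simp only [zpow_natCast]
    ext w
    congr 1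
    rw [hφpow]
    obtain ⟨j, rfl⟩ := hxz w
    rw [map_pow, ha, ← pow_mul, ← pow_mul, mul_comm j, pow_eq_pow_iff_modEq]
    have h3 : orderOf xz = r := by rw [← hx]; exact Subgroup.orderOf_mk _ _
    rw [h3]
    exact (hi.mul_right j).symm
  refine (Subgroup.card_dvd_of_le hrange).trans ?_
  rw [Nat.card_zpowers]
  exact orderOf_dvd_of_pow_eq_one hφk

end equiv

end Cfsg.Agent.H287.Ppd
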